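import Groth.Agent.LC.ExtDim
import Groth.Agent.LC.DepthExt
import Groth.Agent.LC.DepthFlatFibre
import Groth.Agent.LC.CanonAnnihilator
import Mathlib
import Mathlib.RingTheory.KrullDimension.Regular

/-!
# Nonzerodivisors outside the minimal primes of a Cohen–Macaulay local ring
-/

set_option autoImplicit false

set_option linter.style.haveILetI false

universe u

open IsLocalRing RingTheory.Sequence
open scoped Pointwise

namespace Groth.Agent.GrpdSlice29

variable {B : Type u} [CommRing B] [LocCoh.IsCohenMacaulayLocalRing B]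

/-- Associated primes of a Cohen–Macaulay local ring are minimal. -/
theorem minimal_of_ass {p : Ideal B} (hp : p ∈ associatedPrimes B B) : p ∈ minimalPrimes B := by
  haveI := hp.isPrime
  have h := LC.coheight_eq_of_ass_of_isCM (R := B) B
    (LocCoh.IsCohenMacaulayLocalRing.supportDim_eq_depth) (p := ⟨p, inferInstance⟩) hp
  rw [Module.supportDim_self_eq_ringKrullDim] at h
  obtain ⟨q, hq, hqp⟩ := Ideal.exists_minimalPrimes_le (I := (⊥ : Ideal B)) (J := p) bot_le
  rcases eq_or_lt_of_le hqp with rfl | hlt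
  · exact hq
  exfalso
  haveI := hq.1.1
  let a : PrimeSpectrum B := ⟨p, inferInstance⟩
  let b : PrimeSpectrum B := ⟨q, inferInstance⟩
  have h1 : Order.coheight a + 1 ≤ Order.coheight b := Order.coheight_add_one_le (show b < a from hlt)
  have h2 : (Order.coheight b : WithBot ℕ∞) ≤ ringKrullDim B := Order.coheight_le_krullDim b
  rw [← h, WithBot.coe_le_coe] at h2
  have hne : Order.coheight a ≠ ⊤ := by
    intro htop
    rw [show (Order.coheight (⟨p, inferInstance⟩ : PrimeSpectrum B)) = ⊤ from htop] at h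
    exact (finiteRingKrullDim_iff_ne_bot_and_top.1 (inferInstance : FiniteRingKrullDim B)).2 h.symm
  exact absurd (h1.trans h2) (not_le.2 (ENat.lt_add_one_iff hne |>.2 le_rfl))

theorem isSMulRegular_of_forall_not_mem {x : B} (hx : ∀ p ∈ minimalPrimes B, x ∉ p) :
    IsSMulRegular B x := by
  refine isSMulRegular_iff_right_eq_zero_of_smul.2 fun z hz => ?_
  by_contra hne
  have hmem : x ∈ {r : B | ∃ m : B, m ≠ 0 ∧ r • m = 0} := ⟨z, hne, hz⟩
  rw [← biUnion_associatedPrimes_eq_zero_divisors] at hmem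
  obtain ⟨p, hp, hxp⟩ := Set.mem_iUnion₂.1 hmem
  exact hx p (minimal_of_ass hp) hxp

/-- A nonzerodivisor of the maximal ideal cuts down the dimension by one and keeps the ring
Cohen–Macaulay. -/
theorem isCM_quot_span {x : B} (hreg : IsSMulRegular B x) (hx : x ∈ maximalIdeal B) :
    LocCoh.IsCohenMacaulayLocalRing (B ⧸ Ideal.span {x}) ∧
      ringKrullDim (B ⧸ Ideal.span {x}) + 1 = ringKrullDim B := by
  have hne : Ideal.span {x} ≠ ⊤ := fun h =>
    (maximalIdeal.isMaximal B).ne_top (top_le_iff.1 (h ▸ (Ideal.span_singleton_le_iff_mem _).2 hx))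
  haveI : Nontrivial (B ⧸ Ideal.span {x}) := Ideal.Quotient.nontrivial_iff.2 hne
  haveI : IsLocalRing (B ⧸ Ideal.span {x}) := .of_surjective' (Ideal.Quotient.mk _) Ideal.Quotient.mk_surjective
  have hdim := ringKrullDim_quotient_span_singleton_succ_eq_ringKrullDim hreg hx
  refine ⟨{ supportDim_eq_depth := ?_ }, hdim⟩
  have hmax : (maximalIdeal B).map (Ideal.Quotient.mk (Ideal.span {x})) = maximalIdeal (B ⧸ Ideal.span {x}) :=
    map_maximalIdeal_of_surjective _ Ideal.Quotient.mk_surjective
  have hspan : Ideal.span {x} = x • (⊤ : Ideal B) := by simp [← Submodule.ideal_span_singleton_smul]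
  have h2 : LocCoh.idealDepth (maximalIdeal B) (QuotSMulTop x B) =
      LocCoh.depth (B ⧸ Ideal.span {x}) (B ⧸ Ideal.span {x}) := by
    rw [LocCoh.depth, ← hmax, ← LC.idealDepth_quot_self_le]
    exact LC.idealDepth_congr _ (Submodule.quotEquivOfEq _ _ hspan.symm)
  rw [← h2, Module.supportDim_self_eq_ringKrullDim]
  have hB := LocCoh.IsCohenMacaulayLocalRing.supportDim_eq_depth (R := B)
  rw [Module.supportDim_self_eq_ringKrullDim, ← hdim,
    show LocCoh.depth B B = LocCoh.idealDepth (maximalIdeal B) B from rfl,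
    ← LC.idealDepth_quotSMulTop_add_one (maximalIdeal B) (M := B) hx hreg, WithBot.coe_add] at hB
  obtain ⟨a, ha⟩ := WithBot.ne_bot_iff_exists.1
    (ne_bot_of_le_ne_bot WithBot.zero_ne_bot (ringKrullDim_nonneg_of_nontrivial (R := B ⧸ Ideal.span {x})))
  rw [← ha] at hB ⊢
  rw [← WithBot.coe_one, ← WithBot.coe_add, ← WithBot.coe_add, WithBot.coe_inj] at hB
  exact congrArg _ ((ENat.add_left_injective_of_ne_top ENat.one_ne_top) hB)

/-- An element of `m` missing all minimal primes, whose preimages do not contain `m`. -/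
theorem exists_mem_forall_not_mem {R C : Type u} [CommRing R] [CommRing C] [IsNoetherianRing C] (φ : R →+* C)
    (m : Ideal R) (h : ∀ P ∈ minimalPrimes C, ¬ m ≤ P.comap φ) :
    ∃ f ∈ m, ∀ P ∈ minimalPrimes C, φ f ∉ P := by
  classical
  by_contra hc
  push Not at hc
  let s := (minimalPrimes.finite_of_isNoetherianRing C).toFinset
  have hsub : (m : Set R) ⊆ ⋃ P ∈ (↑s : Set (Ideal C)), ((P.comap φ : Ideal R) : Set R) := by
    intro f hf
    obtain ⟨P, hP, hfP⟩ := hc f hf
    exact Set.mem_iUnion₂.2 ⟨P, by simpa [s] using hP, hfP⟩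
  obtain ⟨P, hP, hle⟩ := (Ideal.subset_union_prime (f := fun P : Ideal C => P.comap φ) ⊥ ⊥ fun P hP _ _ => by
    have hP' : P ∈ minimalPrimes C := by simpa [s] using hP
    haveI := Ideal.minimalPrimes_isPrime hP'
    exact Ideal.IsPrime.comap φ).1 hsub
  exact h P (by simpa [s] using hP) hle

end Groth.Agent.GrpdSlice29
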