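import Groth.Agent.GrpdField29.DimStab
import Groth.Agent.GrpdLib.Pullback
import Groth.Agent.GrpdLib.StabTorsor
import Groth.Agent.FibDim.Basic
import Groth.Agent.FibDim.RelDim

/-!
# The groupoid over a point and the fibre dimension of the source map
-/

set_option autoImplicit false
set_option linter.style.haveILetI false
set_option backward.isDefEq.respectTransparency false
set_option backward.isDefEq.respectTransparency.types false

universe u

open CategoryTheory CategoryTheory.Limits AlgebraicGeometry Grpd
open Groth.Agent.GrpdLib

namespace Groth.Agent.GrpdSlice29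

variable {S : Scheme.{u}} (G : GroupoidScheme S) {U' : Scheme.{u}} (g : U' ⟶ G.U)

theorem stabι_pullBack_t :
    stabι (pullBackGrpd G g) ≫ pbT G g = (pullBackGrpd G g).stabilizerToU := stabι_t (pullBackGrpd G g)

theorem stabι_pullBack_s :
    stabι (pullBackGrpd G g) ≫ pbS G g = (pullBackGrpd G g).stabilizerToU := stabι_s (pullBackGrpd G g)

/-- The stabilizer of the pulled back groupoid is the pullback of the stabilizer. -/
noncomputable def stabPullBackHom : (pullBackGrpd G g).stabilizer ⟶ pullback G.stabilizerToU g :=
  pullback.lift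
    (pullback.lift (stabι (pullBackGrpd G g) ≫ pbMid G g) ((pullBackGrpd G g).stabilizerToU ≫ g) (by
      apply pullback.hom_ext
      · simp only [Category.assoc, j_fst, diag_fst, Category.comp_id, pbMid_t]
        rw [reassoc_of% (stabι_pullBack_t G g)]
      · simp only [Category.assoc, j_snd, diag_snd, Category.comp_id, pbMid_s]
        rw [reassoc_of% (stabι_pullBack_s G g)]))
    (pullBackGrpd G g).stabilizerToU
    (pullback.lift_snd _ _ _)

/-- The inverse map. -/
noncomputable def stabPullBackInv : pullback G.stabilizerToU g ⟶ (pullBackGrpd G g).stabilizer :=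
  let a := pullback.fst G.stabilizerToU g
  let b := pullback.snd G.stabilizerToU g
  pullback.lift (pbMk G g (a ≫ stabι G) b b
      (by rw [Category.assoc, stabι_t]; exact pullback.condition)
      (by rw [Category.assoc, stabι_s]; exact pullback.condition)) b (by
    apply pullback.hom_ext
    · exact (Category.assoc _ _ _).trans ((congrArg (_ ≫ ·) (j_fst (pullBackGrpd G g))).trans ((pbMk_t ..).trans
        ((Category.assoc _ _ _).trans ((congrArg (b ≫ ·) (diag_fst (pullBackGrpd G g))).trans
          (Category.comp_id b))).symm))
    · exact (Category.assoc _ _ _).trans ((congrArg (_ ≫ ·) (j_snd (pullBackGrpd G g))).trans ((pbMk_s ..).trans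
        ((Category.assoc _ _ _).trans ((congrArg (b ≫ ·) (diag_snd (pullBackGrpd G g))).trans
          (Category.comp_id b))).symm)))

/-- The stabilizer commutes with pulling back the objects. -/
noncomputable def stabPullBackIso : (pullBackGrpd G g).stabilizer ≅ pullback G.stabilizerToU g where
  hom := stabPullBackHom G g
  inv := stabPullBackInv G g
  hom_inv_id := by
    have ht := stabι_pullBack_t G g
    have hs := stabι_pullBack_s G g
    dsimp only [stabι, pullBackGrpd] at ht hs
    apply pullback.hom_ext
    · rw [Category.id_comp, stabPullBackInv, Category.assoc, pullback.lift_fst]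
      refine pb_hom_ext G g ?_ ?_ ?_
      · rw [Category.assoc, pbMk_mid, stabPullBackHom, pullback.lift_fst_assoc]
        exact pullback.lift_fst _ _ _
      · rw [Category.assoc, pbMk_t, stabPullBackHom, pullback.lift_snd]
        exact ht.symm
      · rw [Category.assoc, pbMk_s, stabPullBackHom, pullback.lift_snd]
        exact hs.symm
    · rw [Category.id_comp, stabPullBackInv, Category.assoc, pullback.lift_snd, stabPullBackHom,
        pullback.lift_snd]
      rfl
  inv_hom_id := by
    apply pullback.hom_ext
    · apply pullback.hom_ext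
      · rw [Category.id_comp, stabPullBackHom, Category.assoc, Category.assoc, pullback.lift_fst_assoc,
          pullback.lift_fst]
        exact ((Category.assoc _ _ _).symm.trans (congrArg (· ≫ pbMid G g) (pullback.lift_fst _ _ _))).trans
          (pbMk_mid ..)
      · rw [Category.id_comp, stabPullBackHom, Category.assoc, Category.assoc, pullback.lift_fst_assoc,
          pullback.lift_snd]
        exact ((Category.assoc _ _ _).symm.trans (congrArg (· ≫ g) (pullback.lift_snd _ _ _))).trans
          pullback.condition.symm
    · rw [Category.id_comp, stabPullBackHom, Category.assoc, pullback.lift_snd]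
      exact pullback.lift_snd _ _ _

theorem lft_pbS [LocallyOfFiniteType G.s] [LocallyOfFiniteType g] : LocallyOfFiniteType (pbS G g) := by
  haveI : LocallyOfFiniteType (srcMap G g) := by rw [srcMap]; infer_instance
  exact MorphismProperty.pullback_snd _ _ inferInstance

theorem lft_pbT [LocallyOfFiniteType G.t] [LocallyOfFiniteType g] : LocallyOfFiniteType (pbT G g) := by
  rw [pbT]; infer_instance

variable [LocallyOfFiniteType G.s] [LocallyOfFiniteType G.t] (u : G.U)

/-- The dimension `d` of the stabilizer at a finite type point bounds the transcendence degree of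
arrows from `u` to `u` and is attained at a generization of the identity. -/
theorem exists_stab_dim (hu : LocallyOfFiniteType (G.U.fromSpecResidueField u)) :
    ∃ d : ℕ, topologicalKrullDim ↥(G.stabilizerToU.fiber u) = ((d : ℕ∞) : WithBot ℕ∞) ∧
      (∀ z : G.R, G.t z = u → G.s z = u → FibDim.rd G.s z ≤ d) ∧
      ((d : ℕ∞) : WithBot ℕ∞) ≤ FlatMor.fibreDimAt G.s (G.e u) := by
  let ι := G.U.fromSpecResidueField u
  let H := pullBackGrpd G ι
  let k := G.U.residueField u
  let eU : H.U ≅ Spec (CommRingCat.of k) := Iso.refl _
  haveI : LocallyOfFiniteType ι := hu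
  haveI : LocallyOfFiniteType H.s := lft_pbS G ι
  haveI : LocallyOfFiniteType H.t := lft_pbT G ι
  haveI hsub : Subsingleton H.U := FibDim.subsingleton_spec_field k
  obtain ⟨d, hd⟩ := GrpdField29.exists_dim H k eU
  have hdim := GrpdField29.dim_eq H k eU hd
  have hpt : ∀ x : H.U, ι x = u := fun x => by
    have : ι x ∈ Set.range ι := ⟨x, rfl⟩
    rw [Scheme.range_fromSpecResidueField] at this
    exact this
  haveI : IsPreimmersion (pbMid G ι) := by
    have h1 : IsPreimmersion (pullback.fst (srcMap G ι) ι) := MorphismProperty.pullback_fst _ _ inferInstance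
    have h2 : IsPreimmersion (pullback.fst G.t ι) := MorphismProperty.pullback_fst _ _ inferInstance
    rw [pbMid]; infer_instance
  have hrd : ∀ w : H.R, FibDim.rd H.s w = FibDim.rd G.s (pbMid G ι w) := by
    intro w
    have h := FibDim.rdeg_congr_preimmersion (f := G.s) (f' := H.s) (a := pbMid G ι) (b := ι)
      (pbMid_s G ι).symm w
    rw [← FibDim.rd_eq_rdeg, ← FibDim.rd_eq_rdeg] at h
    exact_mod_cast h
  refine ⟨d, ?_, fun z hzt hzs => ?_, ?_⟩
  · rw [← hdim, GrpdField29.dim_eq_dim_stabilizer H k eU]
    exact ((stabPullBackIso G ι).hom.homeomorph.isHomeomorph.topologicalKrullDim_eq _).symm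
  · obtain ⟨pt⟩ : Nonempty H.U := ⟨(IsLocalRing.closedPoint k : Spec (CommRingCat.of k))⟩
    obtain ⟨y, hy, -⟩ := Scheme.Pullback.exists_preimage_pullback (f := G.t) (g := ι) z pt (hzt.trans (hpt _).symm)
    obtain ⟨w, hw, -⟩ := Scheme.Pullback.exists_preimage_pullback (f := srcMap G ι) (g := ι) y pt (by
      rw [srcMap, Scheme.Hom.comp_apply, hy, hzs, hpt])
    have hwz : pbMid G ι w = z := by rw [pbMid, Scheme.Hom.comp_apply, hw, hy]
    rw [← hwz, ← hrd]
    obtain ⟨η, hη, hmax⟩ := FibDim.exists_maximal_generization w
    exact (FibDim.rd_le_of_specializes H.s hη (Subsingleton.elim _ _)).trans (hd η hmax).le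
  · let pt : H.U := (IsLocalRing.closedPoint k : Spec (CommRingCat.of k))
    obtain ⟨η, hη, hmax⟩ := FibDim.exists_maximal_generization (H.e pt)
    have he : pbMid G ι (H.e pt) = G.e u := by
      show pbMid G ι (pbE G ι pt) = _
      rw [← Scheme.Hom.comp_apply, pbE_mid, Scheme.Hom.comp_apply, hpt]
    have hz : pbMid G ι η ⤳ G.e u := he ▸ hη.map (pbMid G ι).continuous
    have hsη : G.s (pbMid G ι η) = G.s (G.e u) := by
      refine ((Scheme.Hom.comp_apply _ _ η).symm.trans (congr($(pbMid_s G ι) η))).trans
        ((hpt _).trans ?_)
      rw [← Scheme.Hom.comp_apply, G.e_s]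
      rfl
    have := FibDim.rd_le_fibreDimAt G.s hz hsη
    rwa [← hrd, hd η hmax] at this

end Groth.Agent.GrpdSlice29
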