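import Groth.Agent.GrpdSlice29.Step
import Groth.Agent.GrpdLib.DegDecomp
import Groth.Agent.CMOpen5.Open
import Groth.Agent.Triage.CMBC
import Groth.Agent.S1342
import Groth.Agent.S7510

/-!
# Maximal slices
-/

set_option autoImplicit false
set_option linter.style.haveILetI false
set_option backward.isDefEq.respectTransparency false
set_option backward.isDefEq.respectTransparency.types false

universe u

open CategoryTheory CategoryTheory.Limits AlgebraicGeometry Grpd IsLocalRing
open Groth.Agent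

namespace Groth.Agent.GrpdSlice29

/-- Cohen–Macaulay at every point. -/
def allCM : MorphismProperty Scheme.{u} := fun X _ f => ∀ x : X, MoreMor.IsCMAt f x

instance respectsIso_allCM : (allCM.{u}).RespectsIso := by
  refine MorphismProperty.RespectsIso.mk _ (fun e f h x => ?_) (fun e f h x => ?_)
  · exact (CMOpen5.isCMAt_openImmersion_comp e.hom f x).2 (h _)
  · exact (CMOpen5.isCMAt_comp_openImmersion f e.hom x).2 (h x)

/-- The Cohen–Macaulay locus. -/
def cmLocus {X Y : Scheme.{u}} (f : X ⟶ Y) (_ : LocallyOfFinitePresentation f) : X.Opens :=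
  ⟨{x | MoreMor.IsCMAt f x}, CMOpen5.isOpen_isCMAt f⟩

theorem flat_of_forall_cm {X Y : Scheme.{u}} {f : X ⟶ Y} (h : ∀ x, Grpd.IsCMAt f x) : Flat f :=
  Flat.of_stalkMap _ fun x => (moreMor_of_isCMAt f x (h x)).1

theorem cmLocus_bc {X Y Y' : Scheme.{u}} (f : X ⟶ Y) (hf : LocallyOfFinitePresentation f) (b : Y' ⟶ Y)
    [Flat b] [LocallyOfFinitePresentation b] (hf' : LocallyOfFinitePresentation (pullback.snd f b)) :
    pullback.fst f b ⁻¹ᵁ cmLocus f hf = cmLocus (pullback.snd f b) hf' := by
  ext x'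
  show MoreMor.IsCMAt f (pullback.fst f b x') ↔ MoreMor.IsCMAt (pullback.snd f b) x'
  have hc := IsPullback.of_hasPullback f b
  rw [Triage.CMMor.isCMAt_iff_sm f _ _ rfl, Triage.CMMor.isCMAt_iff_sm (pullback.snd f b) x' _ rfl]
  refine and_congr ⟨fun h => ?_, fun h => ?_⟩ (CMBCAny.isCM_fibre_iff hc x').symm
  · rw [FibFlat.sm_flat_iff] at h ⊢
    exact Triage.CMBC.flat_stalk_of_isPullback hc x' h
  · let x := pullback.fst f b x'
    let y' := pullback.snd f b x'
    have hy : b y' = f x := by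
      rw [← Scheme.Hom.comp_apply, ← pullback.condition, Scheme.Hom.comp_apply]
    have h1 : (FibFlat.sm (pullback.snd f b ≫ b) x' (f x) (by rw [Scheme.Hom.comp_apply, hy])).Flat := by
      rw [FibFlat.sm_comp (pullback.snd f b) b x' y' (f x) rfl hy]
      refine RingHom.Flat.comp ?_ h
      rw [FibFlat.sm_flat_iff]
      exact Flat.stalkMap b y'
    rw [FibFlat.sm_congr pullback.condition.symm x' (f x), FibFlat.sm_comp (pullback.fst f b) f x' x (f x) rfl rfl] at h1
    refine Triage.CMMor.flat_of_comp _ _ ?_ h1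
    rw [FibFlat.sm_flat_iff]
    exact Flat.stalkMap (pullback.fst f b) x'

variable {S : Scheme.{u}} (G : GroupoidScheme S) {U' : Scheme.{u}} (g : U' ⟶ G.U)

/-- Arrows with both ends in `U'` are exchanged by the inverse. -/
noncomputable def swapEnds : pullback (pullback.snd g G.t ≫ G.s) g ⟶ pullback (pullback.snd g G.t ≫ G.s) g :=
  pullback.lift
    (pullback.lift (pullback.snd (pullback.snd g G.t ≫ G.s) g)
      (pullback.fst (pullback.snd g G.t ≫ G.s) g ≫ pullback.snd g G.t ≫ G.i) (by
        rw [Category.assoc, Category.assoc, G.i_t]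
        exact pullback.condition.symm))
    (pullback.fst (pullback.snd g G.t ≫ G.s) g ≫ pullback.fst g G.t) (by
      rw [pullback.lift_snd_assoc, Category.assoc, Category.assoc, G.i_s, Category.assoc, pullback.condition])

theorem swapEnds_snd : swapEnds G g ≫ pullback.snd (pullback.snd g G.t ≫ G.s) g =
    pullback.fst (pullback.snd g G.t ≫ G.s) g ≫ pullback.fst g G.t := pullback.lift_snd ..

theorem swapEnds_fst_fst : (swapEnds G g ≫ pullback.fst (pullback.snd g G.t ≫ G.s) g) ≫ pullback.fst g G.t =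
    pullback.snd (pullback.snd g G.t ≫ G.s) g := by
  rw [swapEnds, pullback.lift_fst, pullback.lift_fst]

theorem swapEnds_fst_snd : (swapEnds G g ≫ pullback.fst (pullback.snd g G.t ≫ G.s) g) ≫ pullback.snd g G.t =
    pullback.fst (pullback.snd g G.t ≫ G.s) g ≫ pullback.snd g G.t ≫ G.i := by
  rw [swapEnds, pullback.lift_fst, pullback.lift_snd]

theorem swapEnds_swapEnds : swapEnds G g ≫ swapEnds G g = 𝟙 _ := by
  apply pullback.hom_ext
  · apply pullback.hom_ext
    · rw [Category.id_comp, Category.assoc (swapEnds G g), Category.assoc (swapEnds G g),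
        swapEnds_fst_fst, swapEnds_snd]
    · rw [Category.id_comp, Category.assoc (swapEnds G g), Category.assoc (swapEnds G g),
        swapEnds_fst_snd, ← Category.assoc, ← Category.assoc, swapEnds_fst_snd, Category.assoc, Category.assoc,
        GrpdLib.i_i, Category.comp_id]
  · rw [Category.id_comp, Category.assoc, swapEnds_snd, ← Category.assoc, swapEnds_fst_fst]

variable [LocallyOfFinitePresentation G.s] [LocallyOfFinitePresentation G.t]

/-- A slice can be shrunk to one with Cohen–Macaulay structure maps. -/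
theorem exists_cm_slice (hs : ∀ r : G.R, Grpd.IsCMAt G.s r) (ht : ∀ r : G.R, Grpd.IsCMAt G.t r)
    {u : G.U} {n : ℕ} (hsl : HasSlice G u n) :
    ∃ (U' : Scheme.{u}) (_ : IsAffine U') (g : U' ⟶ G.U) (u' : U') (p : ↑(pullback g G.t)),
      IsImmersion g ∧ LocallyOfFinitePresentation g ∧ g u' = u ∧ pullback.fst g G.t p = u' ∧
      pullback.snd g G.t p = G.e u ∧ (∀ q, Grpd.IsCMAt (pullback.snd g G.t ≫ G.s) q) ∧
      LocallyOfFinitePresentation (pullback.snd g G.t ≫ G.s) ∧
      (∀ q, Grpd.IsCMAt (pullback.snd (pullback.snd g G.t ≫ G.s) g) q) ∧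
      LocallyOfFinitePresentation (pullback.snd (pullback.snd g G.t ≫ G.s) g) ∧
      (∀ q, Grpd.IsCMAt (pullback.fst (pullback.snd g G.t ≫ G.s) g ≫ pullback.fst g G.t) q) ∧
      LocallyOfFinitePresentation (pullback.fst (pullback.snd g G.t ≫ G.s) g ≫ pullback.fst g G.t) ∧
      FlatMor.fibreDimAt (pullback.snd g G.t ≫ G.s) p = ((n : ℕ∞) : WithBot ℕ∞) := by
  obtain ⟨U₀, hU₀, g₀, u₀, p₀, hg₀, hg₀lfp, hu₀, hp1, hp2, hcm, hn⟩ := hsl
  haveI : LocallyOfFinitePresentation (pullback.snd g₀ G.t) := MorphismProperty.pullback_snd _ _ hg₀lfp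
  haveI : Flat G.s := flat_of_forall_cm hs
  haveI : Flat G.t := flat_of_forall_cm ht
  let h₀ := pullback.snd g₀ G.t ≫ G.s
  have hh₀ : LocallyOfFinitePresentation h₀ := inferInstance
  obtain ⟨V, hV⟩ := S7510.result S G g₀ allCM (@LocallyOfFinitePresentation)
    (@Flat ⊓ @LocallyOfFinitePresentation) (fun _ _ _ h => h.2) cmLocus
    (fun f hf x => (CMOpen5.isCMAt_openImmersion_comp (cmLocus f hf).ι f x).2 x.2)
    (fun f hf W hW x hx => (CMOpen5.isCMAt_openImmersion_comp W.ι f ⟨x, hx⟩).1 (hW ⟨x, hx⟩))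
    (fun f hf b hb hf' => by
      haveI : Flat b := hb.1
      haveI : LocallyOfFinitePresentation b := hb.2
      exact cmLocus_bc f hf b hf')
    ⟨inferInstance, inferInstance⟩ ⟨inferInstance, inferInstance⟩ hg₀lfp hh₀
  have hu₀V : u₀ ∈ V := by
    have : p₀ ∈ pullback.fst g₀ G.t ⁻¹ᵁ V := by rw [hV]; exact moreMor_of_isCMAt _ _ hcm
    rw [← hp1]; exact this
  obtain ⟨V₁, hV₁, hu₁, hV₁le⟩ := exists_isAffineOpen_mem_and_subset hu₀V
  haveI : IsAffine V₁.toScheme := hV₁
  let g := V₁.ι ≫ g₀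
  let h := pullback.snd g G.t ≫ G.s
  obtain ⟨p, hq1, hq2⟩ := Scheme.Pullback.exists_preimage_pullback (f := g) (g := G.t)
    (⟨u₀, hu₁⟩ : V₁.toScheme) (G.e u) (by
      rw [Scheme.Hom.comp_apply, e_apply_t]
      exact hu₀)
  let π : pullback g G.t ⟶ pullback g₀ G.t :=
    pullback.lift (pullback.fst g G.t ≫ V₁.ι) (pullback.snd g G.t) (by rw [Category.assoc]; exact pullback.condition)
  have sq : IsPullback π (pullback.fst g G.t) (pullback.fst g₀ G.t) V₁.ι := by
    refine IsPullback.of_right ?_ (pullback.lift_fst _ _ _) (IsPullback.of_hasPullback g₀ G.t).flip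
    rw [pullback.lift_snd]
    exact (IsPullback.of_hasPullback g G.t).flip
  haveI : IsOpenImmersion π := MorphismProperty.of_isPullback (P := @IsOpenImmersion) sq.flip inferInstance
  have hπ : π ≫ h₀ = h := by rw [pullback.lift_snd_assoc]
  have hcmh : ∀ q, Grpd.IsCMAt h q := by
    intro q
    rw [← hπ]
    refine grpd_of_moreMor _ _ ((CMOpen5.isCMAt_openImmersion_comp π h₀ q).2 ?_)
    have : π q ∈ pullback.fst g₀ G.t ⁻¹ᵁ V := by
      show pullback.fst g₀ G.t (π q) ∈ V
      rw [← Scheme.Hom.comp_apply, pullback.lift_fst, Scheme.Hom.comp_apply]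
      exact hV₁le (pullback.fst g G.t q).2
    rw [hV] at this
    exact this
  haveI : LocallyOfFinitePresentation g := inferInstance
  haveI : LocallyOfFinitePresentation (pullback.snd g G.t) := MorphismProperty.pullback_snd _ _ inferInstance
  haveI hlh : LocallyOfFinitePresentation h := inferInstance
  haveI : Flat h := flat_of_forall_cm hcmh
  haveI : LocallyOfFinitePresentation (pullback.snd h g) := MorphismProperty.pullback_snd _ _ hlh
  have hs' : ∀ q, Grpd.IsCMAt (pullback.snd h g) q := fun q => by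
    refine grpd_of_moreMor _ _ ?_
    exact (Set.ext_iff.1 (S1342.result h _ _ _ (IsPullback.of_hasPullback h g)) q).2
      (moreMor_of_isCMAt _ _ (hcmh _))
  haveI : IsIso (swapEnds G g) := ⟨swapEnds G g, swapEnds_swapEnds G g, swapEnds_swapEnds G g⟩
  refine ⟨_, inferInstance, g, ⟨u₀, hu₁⟩, p, inferInstance, inferInstance,
    by rw [Scheme.Hom.comp_apply]; exact hu₀, hq1, hq2, hcmh, hlh, hs', inferInstance, ?_, ?_, ?_⟩
  · intro q
    rw [← swapEnds_snd]
    exact grpd_of_moreMor _ _ ((CMOpen5.isCMAt_openImmersion_comp (swapEnds G g) _ q).2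
      (moreMor_of_isCMAt _ _ (hs' _)))
  · rw [← swapEnds_snd]; infer_instance
  · have hπp : π p = p₀ := by
      apply (pullback.snd g₀ G.t).isEmbedding.injective
      rw [← Scheme.Hom.comp_apply, pullback.lift_snd, hq2, hp2]
    show FlatMor.fibreDimAt h p = _
    rw [← hπ, FibDim.fibreDimAt_openImmersion_comp, hπp, hn]

/-- Existence of maximal slices. -/
theorem exists_max (hs : ∀ r : G.R, Grpd.IsCMAt G.s r) (u : G.U)
    (hu : LocallyOfFiniteType (G.U.fromSpecResidueField u)) :
    ∃ d : ℕ, topologicalKrullDim ↥(G.stabilizerToU.fiber u) = ((d : ℕ∞) : WithBot ℕ∞) ∧ HasSlice G u d := by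
  obtain ⟨d, hd, hbound, hle⟩ := exists_stab_dim G u hu
  obtain ⟨n, hn, hsl⟩ := hasSlice_start G u (hs _)
  refine ⟨d, hd, hasSlice_min G hbound ?_ hsl⟩
  rw [hn] at hle
  exact_mod_cast hle

end Groth.Agent.GrpdSlice29
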