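import Groth.Agent.Triage.CMMor
import Groth.Agent.Triage.SliceFlatSch
import Groth.Agent.DimFormula.Fibre
import Groth.Agent.FibDim.RelDim
import Groth.Agent.H23.GysinPb
import Groth.Agent.IntMultLib.RegImm
import Groth.Prelude.Def_Grpd

/-!
# Cohen–Macaulay morphisms along closed subschemes cut out by one equation
-/

set_option autoImplicit false
set_option linter.style.haveILetI false
set_option backward.isDefEq.respectTransparency false
set_option backward.isDefEq.respectTransparency.types false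

universe u

open CategoryTheory CategoryTheory.Limits AlgebraicGeometry IsLocalRing
open Groth.Agent

namespace Groth.Agent.GrpdSlice29

theorem flat_comp_surjective_iff {O A A' : Type u} [CommRing O] [CommRing A] [CommRing A'] (σ : O →+* A)
    (ψ : A →+* A') (hψ : Function.Surjective ψ) (K : Ideal A) (hK : RingHom.ker ψ = K) :
    (ψ.comp σ).Flat ↔ ((Ideal.Quotient.mk K).comp σ).Flat := by
  subst hK
  let e := RingHom.quotientKerEquivOfSurjective hψ
  have he : ψ.comp σ = e.toRingHom.comp ((Ideal.Quotient.mk (RingHom.ker ψ)).comp σ) :=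
    RingHom.ext fun _ => rfl
  constructor
  · intro h
    have h2 : (Ideal.Quotient.mk (RingHom.ker ψ)).comp σ = e.symm.toRingHom.comp (ψ.comp σ) :=
      RingHom.ext fun a => (e.symm_apply_apply _).symm
    rw [h2]
    exact h.comp (RingHom.Flat.of_bijective e.symm.bijective)
  · intro h
    rw [he]
    exact h.comp (RingHom.Flat.of_bijective e.bijective)

/-- Quotients of a surjective image. -/
noncomputable def quotImageEquiv {A A' : Type u} [CommRing A] [CommRing A'] (ψ : A →+* A')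
    (hψ : Function.Surjective ψ) (I J : Ideal A) (hJ : RingHom.ker ψ = J) : A ⧸ (I ⊔ J) ≃+* A' ⧸ I.map ψ :=
  (Ideal.quotEquivOfEq (by
    rw [← hJ, ← RingHom.comap_ker, Ideal.mk_ker, Ideal.comap_map_of_surjective _ hψ,
      ← RingHom.ker_eq_comap_bot] :
      I ⊔ J = RingHom.ker ((Ideal.Quotient.mk (I.map ψ)).comp ψ))).trans
    (RingHom.quotientKerEquivOfSurjective (f := (Ideal.Quotient.mk (I.map ψ)).comp ψ)
      (Ideal.Quotient.mk_surjective.comp hψ))

variable {X Y Z : Scheme.{u}}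

/-- The ideal of the fibre in a local ring. -/
noncomputable abbrev fibIdeal (h : X ⟶ Y) (x : X) (y : Y) (hy : h x = y) : Ideal (X.presheaf.stalk x) :=
  (maximalIdeal (Y.presheaf.stalk y)).map (FibFlat.sm h x y hy)

theorem isCMAt_iff_sm (h : X ⟶ Y) (x : X) (y : Y) (hy : h x = y) :
    Grpd.IsCMAt h x ↔ (FibFlat.sm h x y hy).Flat ∧
      LocCoh.IsCohenMacaulayLocalRing (↑(X.presheaf.stalk x) ⧸ fibIdeal h x y hy) := by
  subst hy
  rw [fibIdeal, FibFlat.sm_self]
  rfl

theorem moreMor_of_isCMAt (h : X ⟶ Y) (x : X) (hcm : Grpd.IsCMAt h x) : MoreMor.IsCMAt h x :=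
  (Triage.CMMor.isCMAt_iff h x).2 hcm

theorem grpd_of_moreMor (h : X ⟶ Y) (x : X) (hcm : MoreMor.IsCMAt h x) : Grpd.IsCMAt h x :=
  (Triage.CMMor.isCMAt_iff h x).1 hcm

theorem rd_preimmersion_comp (π : Z ⟶ X) [IsPreimmersion π] (h : X ⟶ Y) [LocallyOfFiniteType h]
    [LocallyOfFiniteType (π ≫ h)] (z : Z) : FibDim.rd (π ≫ h) z = FibDim.rd h (π z) := by
  have h1 := FibDim.rd_eq_rdeg (π ≫ h) z
  rw [VarDim.rdeg_comp, VarDim.rdeg_preimmersion π, add_zero, ← FibDim.rd_eq_rdeg] at h1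
  exact_mod_cast h1

theorem ringKrullDim_fibre (h : X ⟶ Y) [LocallyOfFiniteType h] (x : X) (y : Y) (hy : h x = y) :
    ringKrullDim (↑(X.presheaf.stalk x) ⧸ fibIdeal h x y hy) = (DimFormula.fb h x : WithBot ℕ∞) := by
  subst hy
  rw [fibIdeal, FibFlat.sm_self,
    ringKrullDim_eq_of_ringEquiv (Triage.CMMor.exists_equiv_fibre_stalk h x).some]
  exact DimFormula.ringKrullDim_stalk_fibre h x

/-- Behaviour of Cohen–Macaulayness and of the dimension of the fibre under a surjection of local rings. -/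
theorem cm_of_surjective (π : Z ⟶ X) [IsPreimmersion π] (h : X ⟶ Y) (z : Z) (x : X) (hx : π z = x) (y : Y)
    (hy : h x = y) (K : Ideal (X.presheaf.stalk x)) (hK : RingHom.ker (FibFlat.sm π z x hx) = K)
    (hflat : ((Ideal.Quotient.mk K).comp (FibFlat.sm h x y hy)).Flat)
    (hcm : LocCoh.IsCohenMacaulayLocalRing (↑(X.presheaf.stalk x) ⧸ (fibIdeal h x y hy ⊔ K))) :
    Grpd.IsCMAt (π ≫ h) z := by
  have hz : (π ≫ h) z = y := by rw [Scheme.Hom.comp_apply, hx, hy]
  rw [isCMAt_iff_sm (π ≫ h) z y hz, fibIdeal, FibFlat.sm_comp π h z x y hx hy]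
  refine ⟨(flat_comp_surjective_iff _ _ (FibFlat.surjective_sm z x hx) K hK).2 hflat, ?_⟩
  rw [← Ideal.map_map]
  exact Triage.CMMor.isCM_of_equiv (quotImageEquiv _ (FibFlat.surjective_sm z x hx) _ _ hK) hcm

theorem dim_of_surjective (π : Z ⟶ X) [IsPreimmersion π] (h : X ⟶ Y) [LocallyOfFiniteType h]
    [LocallyOfFiniteType (π ≫ h)] (z : Z) (x : X) (hx : π z = x) (y : Y)
    (hy : h x = y) (K : Ideal (X.presheaf.stalk x)) (hK : RingHom.ker (FibFlat.sm π z x hx) = K) :
    ringKrullDim (↑(X.presheaf.stalk x) ⧸ (fibIdeal h x y hy ⊔ K)) =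
      (DimFormula.fb (π ≫ h) z : WithBot ℕ∞) := by
  have hz : (π ≫ h) z = y := by rw [Scheme.Hom.comp_apply, hx, hy]
  rw [← ringKrullDim_fibre (π ≫ h) z y hz, fibIdeal, fibIdeal, FibFlat.sm_comp π h z x y hx hy, ← Ideal.map_map]
  exact ringKrullDim_eq_of_ringEquiv (quotImageEquiv _ (FibFlat.surjective_sm z x hx) _ _ hK)

theorem isCMAt_openImmersion_comp (π : Z ⟶ X) [IsOpenImmersion π] (h : X ⟶ Y) (z : Z)
    (hcm : Grpd.IsCMAt h (π z)) : Grpd.IsCMAt (π ≫ h) z := by
  have hker : RingHom.ker (FibFlat.sm π z (π z) rfl) = ⊥ := by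
    rw [FibFlat.sm_self]
    exact (RingHom.injective_iff_ker_eq_bot _).1 (ConcreteCategory.bijective_of_isIso (π.stalkMap z)).1
  obtain ⟨h1, h2⟩ := (isCMAt_iff_sm h (π z) (h (π z)) rfl).1 hcm
  refine cm_of_surjective π h z (π z) rfl _ rfl ⊥ hker ?_ ?_
  · exact h1.comp (RingHom.Flat.of_bijective ⟨fun a b hab => by
      simpa [Ideal.Quotient.eq, sub_eq_zero] using hab, Ideal.Quotient.mk_surjective⟩)
  · exact Triage.CMMor.isCM_of_equiv (Ideal.quotEquivOfEq (sup_bot_eq _).symm) h2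

/-- A minimal prime of the fibre gives a maximal point of the fibre. -/
theorem fibMax_of_minimal (h : X ⟶ Y) (x : X) (y : Y) (hy : h x = y) (P : PrimeSpectrum (X.presheaf.stalk x))
    (hP : P.asIdeal ∈ (fibIdeal h x y hy).minimalPrimes) :
    X.fromSpecStalk x P ⤳ x ∧ h (X.fromSpecStalk x P) = h x ∧ FibDim.FibMax h (X.fromSpecStalk x P) := by
  subst hy
  rw [fibIdeal, FibFlat.sm_self] at hP
  have hnat : ∀ Q : PrimeSpectrum (X.presheaf.stalk x), h (X.fromSpecStalk x Q) =
      Y.fromSpecStalk (h x) (PrimeSpectrum.comap (h.stalkMap x).hom Q) := fun Q =>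
    (congr($(Scheme.SpecMap_stalkMap_fromSpecStalk h (x := x)) Q)).symm
  have hclosed : ∀ Q : PrimeSpectrum (X.presheaf.stalk x),
      (maximalIdeal _).map (h.stalkMap x).hom ≤ Q.asIdeal ↔
        PrimeSpectrum.comap (h.stalkMap x).hom Q = closedPoint (Y.presheaf.stalk (h x)) := by
    intro Q
    rw [Ideal.map_le_iff_le_comap]
    refine ⟨fun hle => PrimeSpectrum.ext ((le_maximalIdeal (Ideal.IsPrime.ne_top (Ideal.IsPrime.comap _))).antisymm hle),
      fun he => ?_⟩
    exact (congrArg PrimeSpectrum.asIdeal he).ge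
  have h2 : h (X.fromSpecStalk x P) = h x := by
    rw [hnat, (hclosed P).1 hP.1.2, Scheme.fromSpecStalk_closedPoint]
  have hsp : ∀ Q : PrimeSpectrum (X.presheaf.stalk x), X.fromSpecStalk x Q ⤳ x := fun Q => by
    have : X.fromSpecStalk x Q ∈ Set.range (X.fromSpecStalk x) := ⟨Q, rfl⟩
    rwa [Scheme.range_fromSpecStalk] at this
  refine ⟨hsp P, h2, fun z hz hhz => ?_⟩
  obtain ⟨Q, rfl⟩ : z ∈ Set.range (X.fromSpecStalk x) := by
    rw [Scheme.range_fromSpecStalk]; exact hz.trans (hsp P)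
  have hQP : (Q : PrimeSpectrum (X.presheaf.stalk x)).asIdeal ≤ P.asIdeal :=
    (PrimeSpectrum.le_iff_specializes (Q : PrimeSpectrum (X.presheaf.stalk x)) P).2
      ((X.fromSpecStalk x).isEmbedding.isInducing.specializes_iff.1 hz)
  have hQ : (maximalIdeal _).map (h.stalkMap x).hom ≤ (Q : PrimeSpectrum (X.presheaf.stalk x)).asIdeal := by
    refine (hclosed Q).2 ((Y.fromSpecStalk (h x)).isEmbedding.injective ?_)
    rw [← hnat, hhz, h2, Scheme.fromSpecStalk_closedPoint]
  rw [show Q = P from PrimeSpectrum.ext (le_antisymm hQP (hP.2 ⟨PrimeSpectrum.isPrime _, hQ⟩ hQP))]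

/-- Dividing by an element regular on the fibre keeps flatness. -/
theorem flat_quot_span (h : X ⟶ Y) [LocallyOfFinitePresentation h] (x : X) (y : Y) (hy : h x = y)
    (hflat : (FibFlat.sm h x y hy).Flat) (a : X.presheaf.stalk x) (ha : a ∈ maximalIdeal _)
    (hreg : IsSMulRegular (↑(X.presheaf.stalk x) ⧸ fibIdeal h x y hy) (Ideal.Quotient.mk (fibIdeal h x y hy) a)) :
    ((Ideal.Quotient.mk (Ideal.span {a})).comp (FibFlat.sm h x y hy)).Flat := by
  subst hy
  rw [fibIdeal, FibFlat.sm_self] at hreg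
  rw [FibFlat.sm_self] at hflat ⊢
  obtain ⟨V, hV, U, hU, hx, -, e, hs', hgerm, -, -, hfl⟩ :=
    Triage.SliceFlat.exists_slice_sch h x hflat [a] (by simpa using ha) (fun i hi z hz => by
      obtain rfl : i = 0 := by simpa using hi
      simp only [List.take_zero, Ideal.ofList_nil, bot_sup_eq, List.getElem_cons_zero] at hz ⊢
      rw [← Ideal.Quotient.eq_zero_iff_mem, map_mul] at hz
      rw [← Ideal.Quotient.eq_zero_iff_mem]
      exact hreg.right_eq_zero_of_smul hz) ⊤ trivial
  match hs', hgerm with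
  | [a'], hgerm =>
    simp only [List.map_cons, List.map_nil, List.cons.injEq, and_true] at hgerm
    letI := X.presheaf.algebra_section_stalk ⟨x, hx⟩
    haveI := hU.isLocalization_stalk ⟨x, hx⟩
    letI := Y.presheaf.algebra_section_stalk ⟨h x, e hx⟩
    haveI := hV.isLocalization_stalk ⟨h x, e hx⟩
    let q := hU.primeIdealOf ⟨x, hx⟩
    let I : Ideal Γ(X, U) := Ideal.span {a'}
    let K : Ideal (X.presheaf.stalk x) := I.map (algebraMap Γ(X, U) (X.presheaf.stalk x))
    have hK : K = Ideal.span {a} := by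
      show I.map (X.presheaf.germ U x hx).hom = _
      rw [Ideal.map_span, Set.image_singleton, ← hgerm]
    rw [← hK]
    haveI : Module.Flat Γ(X, U) (X.presheaf.stalk x) :=
      IsLocalization.flat _ q.asIdeal.primeCompl
    letI : Algebra Γ(Y, V) (Γ(X, U) ⧸ I) := ((Ideal.Quotient.mk I).comp (h.appLE V U e).hom).toAlgebra
    haveI : Module.Flat Γ(Y, V) (Γ(X, U) ⧸ I) := by
      have := hfl 1
      rw [List.take_of_length_le (by simp), Ideal.ofList_singleton] at this
      exact this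
    haveI : Module.Flat (Γ(X, U) ⧸ I) (↑(X.presheaf.stalk x) ⧸ K) := Triage.SliceFlat.flat_quotient_map I
    let τ : Γ(Y, V) →+* (↑(X.presheaf.stalk x) ⧸ K) :=
      (Ideal.Quotient.mk K).comp ((algebraMap Γ(X, U) (X.presheaf.stalk x)).comp (h.appLE V U e).hom)
    letI : Algebra Γ(Y, V) (↑(X.presheaf.stalk x) ⧸ K) := τ.toAlgebra
    haveI : IsScalarTower Γ(Y, V) (Γ(X, U) ⧸ I) (↑(X.presheaf.stalk x) ⧸ K) :=
      IsScalarTower.of_algebraMap_eq fun _ => rfl
    haveI hf0 : Module.Flat Γ(Y, V) (↑(X.presheaf.stalk x) ⧸ K) := Module.Flat.trans Γ(Y, V) (Γ(X, U) ⧸ I) _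
    let σ := (Ideal.Quotient.mk K).comp (h.stalkMap x).hom
    letI : Algebra (Y.presheaf.stalk (h x)) (↑(X.presheaf.stalk x) ⧸ K) := σ.toAlgebra
    haveI : IsScalarTower Γ(Y, V) (Y.presheaf.stalk (h x)) (↑(X.presheaf.stalk x) ⧸ K) :=
      IsScalarTower.of_algebraMap_eq fun r => by
        refine congrArg (Ideal.Quotient.mk K) ?_
        show (h.appLE V U e ≫ X.presheaf.germ U x hx).hom r =
          (Y.presheaf.germ V (h x) (e hx) ≫ h.stalkMap x).hom r
        rw [h.germ_stalkMap, Scheme.Hom.appLE, Category.assoc, X.presheaf.germ_res]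
    exact (Module.flat_iff_of_isLocalization (Y.presheaf.stalk (h x))
      (hV.primeIdealOf ⟨h x, e hx⟩).asIdeal.primeCompl (↑(X.presheaf.stalk x) ⧸ K)).2 hf0
  | [], hgerm => simp at hgerm
  | _ :: _ :: _, hgerm => simp at hgerm

/-- The kernel on local rings of a base change of a closed immersion. -/
theorem ker_sm_of_isPullback {W : Scheme.{u}} {π : Z ⟶ X} {q : Z ⟶ W} {f : X ⟶ Y} {i : W ⟶ Y}
    (sq : IsPullback π q f i) [IsClosedImmersion i] (z : Z) (x : X) (hx : π z = x) (y : Y) (hy : f x = y)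
    (w : W) (hw : q z = w) (hwy : i w = y) :
    RingHom.ker (FibFlat.sm π z x hx) = (RingHom.ker (FibFlat.sm i w y hwy)).map (FibFlat.sm f x y hy) := by
  let e := sq.isoPullback
  have he1 : e.hom ≫ pullback.fst f i = π := sq.isoPullback_hom_fst
  have he2 : e.hom ≫ pullback.snd f i = q := sq.isoPullback_hom_snd
  let z' := e.hom z
  have hx' : pullback.fst f i z' = x := by rw [← hx, ← he1]; exact (Scheme.Hom.comp_apply _ _ _).symm
  have hw' : pullback.snd f i z' = w := by rw [← hw, ← he2]; exact (Scheme.Hom.comp_apply _ _ _).symm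
  have h1 : RingHom.ker (FibFlat.sm π z x hx) = RingHom.ker (FibFlat.sm (pullback.fst f i) z' x hx') := by
    rw [FibFlat.sm_congr he1.symm z x hx, FibFlat.sm_comp e.hom (pullback.fst f i) z z' x rfl hx']
    refine RingHom.ker_comp_of_injective _ ?_
    rw [FibFlat.sm_self]
    exact (ConcreteCategory.bijective_of_isIso (e.hom.stalkMap z)).1
  rw [h1]
  clear_value z'
  subst hx' hw' hwy
  rw [FibFlat.sm_self, FibFlat.sm_self, H23.GysinPb.ker_stalkMap_fst f i z']
  rfl

/-- The kernel on local rings of the closed subscheme `f = 0` of an affine scheme. -/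
theorem ker_sm_zeroLocus [IsAffine Y] (f : Γ(Y, ⊤))
    (w : ↑(Spec (CommRingCat.of (Γ(Y, ⊤) ⧸ Ideal.span {f})))) (y : Y)
    (hwy : (Spec.map (CommRingCat.ofHom (Ideal.Quotient.mk (Ideal.span {f}))) ≫ Y.isoSpec.inv) w = y) :
    RingHom.ker (FibFlat.sm (Spec.map (CommRingCat.ofHom (Ideal.Quotient.mk (Ideal.span {f}))) ≫ Y.isoSpec.inv) w y hwy) =
      Ideal.span {(Y.presheaf.germ ⊤ y trivial).hom f} := by
  subst hwy
  let q := CommRingCat.ofHom (Ideal.Quotient.mk (Ideal.span {f}))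
  let i := Spec.map q ≫ Y.isoSpec.inv
  haveI : IsClosedImmersion (Spec.map q) := IsClosedImmersion.spec_of_surjective _ Ideal.Quotient.mk_surjective
  haveI : IsClosedImmersion (i ∣_ ⊤) := IsZariskiLocalAtTarget.restrict (inferInstanceAs (IsClosedImmersion i)) ⊤
  rw [FibFlat.sm_self, IntMultLib.ker_stalkMap_eq_map i (isAffineOpen_top Y) w trivial]
  have hk : RingHom.ker (i.app ⊤).hom = Ideal.span {f} := by
    have : i.app ⊤ = q ≫ (Scheme.ΓSpecIso _).inv := by
      show i.appTop = _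
      have hi : Y.isoSpec.inv.appTop = (Scheme.ΓSpecIso _).inv := by
        rw [← cancel_mono Y.isoSpec.hom.appTop, ← Scheme.Hom.comp_appTop, Iso.hom_inv_id, Scheme.isoSpec_hom,
          Scheme.toSpecΓ_appTop, Iso.inv_hom_id]
        rfl
      rw [Scheme.Hom.comp_appTop, hi, ← Scheme.ΓSpecIso_inv_naturality]
    rw [this]
    refine (RingHom.ker_comp_of_injective _ ?_).trans Ideal.mk_ker
    exact (ConcreteCategory.bijective_of_isIso (Scheme.ΓSpecIso _).inv).1
  rw [hk, Ideal.map_span, Set.image_singleton]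

end Groth.Agent.GrpdSlice29
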