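import Groth.Agent.GrpdSlice29.Max
import Groth.Agent.Triage.SliceCM

/-!
# Quasi-finite maximal slices
-/

set_option autoImplicit false
set_option linter.style.haveILetI false
set_option backward.isDefEq.respectTransparency false
set_option backward.isDefEq.respectTransparency.types false

universe u

open CategoryTheory CategoryTheory.Limits AlgebraicGeometry Grpd IsLocalRing
open Groth.Agent

namespace Groth.Agent.GrpdSlice29

variable {X Y : Scheme.{u}}

/-- A point at which the fibre has dimension zero is quasi-finite. -/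
theorem quasiFiniteAt_of_fibreDimAt_eq_zero (f : X ⟶ Y) [LocallyOfFiniteType f] (x : X)
    (hx : FlatMor.fibreDimAt f x = (((0 : ℕ) : ℕ∞) : WithBot ℕ∞)) : f.QuasiFiniteAt x := by
  obtain ⟨W, hW, hxW⟩ : ∃ W : X.Opens, (∀ z ∈ W, FlatMor.fibreDimAt f z ≤ ((0 : ℕ) : WithBot ℕ∞)) ∧ x ∈ W :=
    ⟨⟨_, FibDim.isOpen_fibreDimAt_le f 0⟩, fun z hz => hz, hx.le⟩
  let f' := W.ι ≫ f
  let x' : W.toScheme := ⟨x, hxW⟩
  rw [show x = W.ι x' from rfl, ← Scheme.Hom.quasiFiniteAt_comp_iff_of_isOpenImmersion]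
  rw [Scheme.Hom.quasiFiniteAt_iff_isOpen_singleton_asFiber]
  haveI : IsLocallyNoetherian (f'.fiber (f' x')) :=
    LocallyOfFiniteType.isLocallyNoetherian (f'.fiberToSpecResidueField (f' x'))
  let ι := f'.fiberι (f' x')
  have hrd : ∀ w, FibDim.rd f' (ι w) = 0 := fun w => by
    have h1 := (FibDim.rd_le_fibreDimAt f (specializes_rfl (x := W.ι (ι w))) rfl).trans (hW _ (ι w).2)
    rw [← FibDim.rd_opens f W (ι w)] at h1
    have : FibDim.rd f' (ι w) ≤ 0 := by exact_mod_cast h1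
    omega
  have key : ∀ a b, a ⤳ b → a = b := fun a b hab => by
    by_contra hne
    have := FibDim.rd_lt f' (hab.map ι.continuous) (fun h => hne (ι.isEmbedding.injective h))
      ((FibDim.fiber_apply_fiberι f' a).trans (FibDim.fiber_apply_fiberι f' b).symm)
    rw [hrd, hrd] at this
    omega
  refine Triage.SliceCM.isOpen_singleton_of_minimal_scheme _ ?_ fun w hw => key _ _ hw
  refine isClosed_of_closure_subset fun w hw => ?_
  exact (key _ _ (specializes_iff_mem_closure.2 hw)).symm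

theorem quasiFiniteAt_iff_fibreDimAt (f : X ⟶ Y) [LocallyOfFiniteType f] (x : X) :
    f.QuasiFiniteAt x ↔ FlatMor.fibreDimAt f x = (((0 : ℕ) : ℕ∞) : WithBot ℕ∞) :=
  ⟨Ega43Prop.fibreDimAt_eq_zero f x, quasiFiniteAt_of_fibreDimAt_eq_zero f x⟩

/-- Quasi-finite at every point. -/
def allQF : MorphismProperty Scheme.{u} := fun X _ f => ∀ x : X, f.QuasiFiniteAt x

instance respectsIso_allQF : (allQF.{u}).RespectsIso := by
  refine MorphismProperty.RespectsIso.mk _ (fun e f h x => ?_) (fun e f h x => ?_)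
  · exact Scheme.Hom.quasiFiniteAt_comp_iff_of_isOpenImmersion.2 (h _)
  · exact Scheme.Hom.quasiFiniteAt_comp_iff.2 (h x)

/-- The quasi-finite locus. -/
def qfLocus {X Y : Scheme.{u}} (f : X ⟶ Y) (_ : LocallyOfFiniteType f) : X.Opens :=
  ⟨{x | FlatMor.fibreDimAt f x ≤ ((0 : ℕ) : WithBot ℕ∞)}, FibDim.isOpen_fibreDimAt_le f 0⟩

theorem mem_qfLocus {f : X ⟶ Y} (hf : LocallyOfFiniteType f) (x : X) :
    x ∈ qfLocus f hf ↔ f.QuasiFiniteAt x := by
  rw [quasiFiniteAt_iff_fibreDimAt]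
  refine ⟨fun h => le_antisymm h ?_, fun h => h.le⟩
  obtain ⟨z, -, -, -, hz⟩ := FibDim.exists_fibMax_generization f x
  rw [hz]
  exact_mod_cast Nat.zero_le _

theorem locallyQuasiFinite_of_forall (f : X ⟶ Y) [LocallyOfFiniteType f] (hf : ∀ q, f.QuasiFiniteAt q) :
    LocallyQuasiFinite f := by
  refine locallyQuasiFinite_iff_isDiscrete_preimage_singleton.2 fun y => ?_
  haveI : DiscreteTopology ↥(f.fiber y) := by
    refine discreteTopology_iff_isOpen_singleton.2 fun w => ?_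
    have aux : ∀ x : X, f.fiberι y w = x → f x = y → IsOpen ({w} : Set ↥(f.fiber y)) := by
      rintro x hw rfl
      obtain rfl : w = f.asFiber x :=
        (f.fiberι _).isEmbedding.injective (hw.trans (f.fiberι_asFiber x).symm)
      exact Scheme.Hom.quasiFiniteAt_iff_isOpen_singleton_asFiber.1 (hf x)
    exact aux _ rfl (FibDim.fiber_apply_fiberι f w)
  exact ⟨(f.fiberHomeo y).symm.isEmbedding.discreteTopology⟩

variable {S : Scheme.{u}} (G : GroupoidScheme S)

theorem stab_dim_eq_zero [LocallyOfFiniteType G.stabilizerToU] [LocallyQuasiFinite G.stabilizerToU] (u : G.U)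
    {d : ℕ} (hd : topologicalKrullDim ↥(G.stabilizerToU.fiber u) = ((d : ℕ∞) : WithBot ℕ∞)) : d = 0 := by
  haveI : DiscreteTopology ↥(G.stabilizerToU ⁻¹' {u}) :=
    (G.stabilizerToU.isDiscrete_preimage_singleton u).to_subtype
  haveI : DiscreteTopology ↥(G.stabilizerToU.fiber u) :=
    (G.stabilizerToU.fiberHomeo u).isEmbedding.discreteTopology
  have h : topologicalKrullDim ↥(G.stabilizerToU.fiber u) ≤ 0 := by
    rcases isEmpty_or_nonempty ↥(G.stabilizerToU.fiber u) with hE | hne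
    · haveI : IsEmpty (TopologicalSpace.IrreducibleCloseds ↥(G.stabilizerToU.fiber u)) :=
        ⟨fun z => hE.false z.isIrreducible.nonempty.some⟩
      exact Order.krullDim_nonpos_of_subsingleton
    · exact topologicalKrullDim_zero_of_discreteTopology _
  rw [hd] at h
  have : d ≤ 0 := by exact_mod_cast h
  omega

variable [LocallyOfFinitePresentation G.s] [LocallyOfFinitePresentation G.t]

theorem qfLocus_bc {X Y Y' : Scheme.{u}} (f : X ⟶ Y) (hf : LocallyOfFiniteType f) (b : Y' ⟶ Y)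
    (hf' : LocallyOfFiniteType (pullback.snd f b)) :
    pullback.fst f b ⁻¹ᵁ qfLocus f hf = qfLocus (pullback.snd f b) hf' := by
  ext x'
  have := FibDim.fibreDimAt_baseChange (IsPullback.of_hasPullback f b) x'
  show FlatMor.fibreDimAt f (pullback.fst f b x') ≤ ((0 : ℕ) : WithBot ℕ∞) ↔
    FlatMor.fibreDimAt (pullback.snd f b) x' ≤ ((0 : ℕ) : WithBot ℕ∞)
  rw [this]

theorem qfLocus_P {X Y : Scheme.{u}} (f : X ⟶ Y) (hf : LocallyOfFiniteType f) :
    allQF ((qfLocus f hf).ι ≫ f) := fun x =>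
  Scheme.Hom.quasiFiniteAt_comp_iff_of_isOpenImmersion.2 ((mem_qfLocus hf _).1 x.2)

theorem qfLocus_max {X Y : Scheme.{u}} (f : X ⟶ Y) (hf : LocallyOfFiniteType f) (W : X.Opens)
    (hW : allQF (W.ι ≫ f)) : W ≤ qfLocus f hf := by
  intro x hx
  rw [mem_qfLocus hf x]
  have h1 : (W.ι ≫ f).QuasiFiniteAt (⟨x, hx⟩ : W.toScheme) := hW _
  exact (Scheme.Hom.quasiFiniteAt_comp_iff_of_isOpenImmersion (f := W.ι) (g := f) (x := (⟨x, hx⟩ : W.toScheme))).1 h1

theorem exists_open_qf [Flat G.s] [Flat G.t] {U₀ : Scheme.{u}} (g₀ : U₀ ⟶ G.U) [LocallyOfFiniteType g₀]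
    [hh : LocallyOfFiniteType (pullback.snd g₀ G.t ≫ G.s)] :
    ∃ V : U₀.Opens, pullback.fst g₀ G.t ⁻¹ᵁ V = qfLocus (pullback.snd g₀ G.t ≫ G.s) hh :=
  S7510.result S G g₀ allQF (@LocallyOfFiniteType)
    (@Flat ⊓ @LocallyOfFiniteType) (fun _ _ _ h => h.2) @qfLocus
    @qfLocus_P @qfLocus_max (fun f hf b _ hf' => qfLocus_bc f hf b hf')
    ⟨‹Flat G.s›, inferInstance⟩ ⟨‹Flat G.t›, inferInstance⟩ ‹_› hh

set_option maxHeartbeats 800000 in
/-- A quasi-finite slice. -/
theorem exists_qf_slice (hs : ∀ r : G.R, Grpd.IsCMAt G.s r) (ht : ∀ r : G.R, Grpd.IsCMAt G.t r)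
    [LocallyOfFiniteType G.stabilizerToU] [LocallyQuasiFinite G.stabilizerToU] (u : G.U)
    (hu : LocallyOfFiniteType (G.U.fromSpecResidueField u)) :
    ∃ (U' : Scheme.{u}) (_ : IsAffine U') (g : U' ⟶ G.U) (u' : U'), IsImmersion g ∧
      LocallyOfFinitePresentation g ∧ g u' = u ∧
      (Flat (pullback.snd g G.t ≫ G.s) ∧ LocallyOfFinitePresentation (pullback.snd g G.t ≫ G.s) ∧
        LocallyOfFiniteType (pullback.snd g G.t ≫ G.s) ∧ LocallyQuasiFinite (pullback.snd g G.t ≫ G.s)) ∧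
      (Flat (pullback.snd (pullback.snd g G.t ≫ G.s) g) ∧
        LocallyOfFinitePresentation (pullback.snd (pullback.snd g G.t ≫ G.s) g) ∧
        LocallyQuasiFinite (pullback.snd (pullback.snd g G.t ≫ G.s) g)) ∧
      (Flat (pullback.fst (pullback.snd g G.t ≫ G.s) g ≫ pullback.fst g G.t) ∧
        LocallyOfFinitePresentation (pullback.fst (pullback.snd g G.t ≫ G.s) g ≫ pullback.fst g G.t) ∧
        LocallyQuasiFinite (pullback.fst (pullback.snd g G.t ≫ G.s) g ≫ pullback.fst g G.t)) := by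
  obtain ⟨d, hd, hsl⟩ := exists_max G hs u hu
  obtain rfl := stab_dim_eq_zero G u hd
  obtain ⟨U₀, hU₀, g₀, u₀, p₀, hg₀, hg₀lfp, hu₀, hp1, hp2, hcm, hlh₀, -, -, -, -, hn⟩ :=
    exists_cm_slice G hs ht hsl
  haveI : LocallyOfFinitePresentation (pullback.snd g₀ G.t) := MorphismProperty.pullback_snd _ _ hg₀lfp
  haveI : Flat G.s := flat_of_forall_cm hs
  haveI : Flat G.t := flat_of_forall_cm ht
  let h₀ := pullback.snd g₀ G.t ≫ G.s
  haveI : Flat h₀ := flat_of_forall_cm hcm
  obtain ⟨V, hV⟩ := exists_open_qf G g₀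
  have hu₀V : u₀ ∈ V := by
    have : p₀ ∈ pullback.fst g₀ G.t ⁻¹ᵁ V := by rw [hV]; exact hn.le
    rw [← hp1]; exact this
  obtain ⟨V₁, hV₁, hu₁, hV₁le⟩ := exists_isAffineOpen_mem_and_subset hu₀V
  haveI : IsAffine V₁.toScheme := hV₁
  let g := V₁.ι ≫ g₀
  let h := pullback.snd g G.t ≫ G.s
  let π : pullback g G.t ⟶ pullback g₀ G.t :=
    pullback.lift (pullback.fst g G.t ≫ V₁.ι) (pullback.snd g G.t) (by rw [Category.assoc]; exact pullback.condition)
  have sq : IsPullback π (pullback.fst g G.t) (pullback.fst g₀ G.t) V₁.ι := by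
    refine IsPullback.of_right ?_ (pullback.lift_fst _ _ _) (IsPullback.of_hasPullback g₀ G.t).flip
    rw [pullback.lift_snd]
    exact (IsPullback.of_hasPullback g G.t).flip
  haveI : IsOpenImmersion π := MorphismProperty.of_isPullback (P := @IsOpenImmersion) sq.flip inferInstance
  have hπ : π ≫ h₀ = h := by rw [pullback.lift_snd_assoc]
  haveI : LocallyOfFinitePresentation g := inferInstance
  haveI : Flat h := by rw [← hπ]; infer_instance
  haveI hlh : LocallyOfFinitePresentation h := by rw [← hπ]; infer_instance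
  haveI : LocallyQuasiFinite h := by
    rw [← hπ]
    refine locallyQuasiFinite_of_forall (π ≫ h₀) fun q => ?_
    rw [Scheme.Hom.quasiFiniteAt_comp_iff_of_isOpenImmersion]
    have hm : π q ∈ pullback.fst g₀ G.t ⁻¹ᵁ V := by
      show pullback.fst g₀ G.t (π q) ∈ V
      rw [← Scheme.Hom.comp_apply, pullback.lift_fst, Scheme.Hom.comp_apply]
      exact hV₁le (pullback.fst g G.t q).2
    rw [hV] at hm
    exact (mem_qfLocus _ _).1 hm
  haveI : LocallyOfFinitePresentation (pullback.snd h g) := MorphismProperty.pullback_snd _ _ hlh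
  haveI : Flat (pullback.snd h g) := inferInstance
  haveI : LocallyQuasiFinite (pullback.snd h g) := inferInstance
  haveI : IsIso (swapEnds G g) := ⟨swapEnds G g, swapEnds_swapEnds G g, swapEnds_swapEnds G g⟩
  refine ⟨_, inferInstance, g, ⟨u₀, hu₁⟩, inferInstance, inferInstance,
    by rw [Scheme.Hom.comp_apply]; exact hu₀, ⟨inferInstance, hlh, inferInstance, inferInstance⟩,
    ⟨inferInstance, inferInstance, inferInstance⟩, ?_⟩
  rw [← swapEnds_snd]
  exact ⟨inferInstance, inferInstance, inferInstance⟩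

end Groth.Agent.GrpdSlice29
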