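import Groth.Agent.GrpdSlice29.Dim
import Groth.Agent.GrpdSlice29.Alg
import Groth.Agent.GrpdSlice29.Point
import Groth.Agent.Ega43Prop.CMConst

/-!
# Slices of groupoids: cutting down the dimension by one
-/

set_option autoImplicit false
set_option linter.style.haveILetI false
set_option backward.isDefEq.respectTransparency false
set_option backward.isDefEq.respectTransparency.types false

universe u

open CategoryTheory CategoryTheory.Limits AlgebraicGeometry Grpd IsLocalRing
open Groth.Agent

namespace Groth.Agent.GrpdSlice29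

variable {S : Scheme.{u}} (G : GroupoidScheme S)

/-- A slice through `u` on which the fibre dimension is `n`. -/
def HasSlice (u : G.U) (n : ℕ) : Prop :=
  ∃ (U' : Scheme.{u}) (_ : IsAffine U') (g : U' ⟶ G.U) (u' : U') (p : ↑(pullback g G.t)),
    IsImmersion g ∧ LocallyOfFinitePresentation g ∧ g u' = u ∧ pullback.fst g G.t p = u' ∧
      pullback.snd g G.t p = G.e u ∧ Grpd.IsCMAt (pullback.snd g G.t ≫ G.s) p ∧
      FlatMor.fibreDimAt (pullback.snd g G.t ≫ G.s) p = ((n : ℕ∞) : WithBot ℕ∞)

variable [LocallyOfFinitePresentation G.s] [LocallyOfFinitePresentation G.t] (u : G.U)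

omit [LocallyOfFinitePresentation G.s] [LocallyOfFinitePresentation G.t] in
theorem e_apply_s : G.s (G.e u) = u := by
  rw [← Scheme.Hom.comp_apply, G.e_s]; rfl

omit [LocallyOfFinitePresentation G.s] [LocallyOfFinitePresentation G.t] in
theorem e_apply_t : G.t (G.e u) = u := by
  rw [← Scheme.Hom.comp_apply, G.e_t]; rfl

/-- The open slice. -/
theorem hasSlice_start (hs : Grpd.IsCMAt G.s (G.e u)) :
    ∃ n : ℕ, FlatMor.fibreDimAt G.s (G.e u) = ((n : ℕ∞) : WithBot ℕ∞) ∧ HasSlice G u n := by
  obtain ⟨V, hV, huV, -⟩ := exists_isAffineOpen_mem_and_subset (show u ∈ (⊤ : G.U.Opens) from trivial)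
  haveI : IsAffine V := hV
  obtain ⟨p, hp1, hp2⟩ := Scheme.Pullback.exists_preimage_pullback (f := V.ι) (g := G.t) (⟨u, huV⟩ : V.toScheme) (G.e u)
    (e_apply_t G u).symm
  haveI : IsOpenImmersion (pullback.snd V.ι G.t) := inferInstance
  obtain ⟨z, -, -, -, hz⟩ := FibDim.exists_fibMax_generization G.s (G.e u)
  refine ⟨_, hz, V.toScheme, inferInstance, V.ι, ⟨u, huV⟩, p, inferInstance, inferInstance, rfl, hp1, hp2, ?_, ?_⟩
  · exact isCMAt_openImmersion_comp _ _ _ (by rw [hp2]; exact hs)
  · rw [FibDim.fibreDimAt_openImmersion_comp, hp2, hz]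

variable {u} {d : ℕ}

/-- At a slice of fibre dimension bigger than `d` there is a function vanishing at the point and at no
maximal point of the fibre. -/
theorem exists_avoiding (hbound : ∀ z : G.R, G.t z = u → G.s z = u → FibDim.rd G.s z ≤ d)
    {U' : Scheme.{u}} [IsAffine U'] (g : U' ⟶ G.U) [IsImmersion g] [LocallyOfFinitePresentation g]
    (u' : U') (hu' : g u' = u) (p : ↑(pullback g G.t)) (hp1 : pullback.fst g G.t p = u')
    (hy : (pullback.snd g G.t ≫ G.s) p = u) (hcm : Grpd.IsCMAt (pullback.snd g G.t ≫ G.s) p)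
    {n : ℕ} (hn : FlatMor.fibreDimAt (pullback.snd g G.t ≫ G.s) p = ((n : ℕ∞) : WithBot ℕ∞)) (hd : d < n) :
    ∃ f : Γ(U', ⊤), (U'.presheaf.germ ⊤ u' trivial).hom f ∈ maximalIdeal (U'.presheaf.stalk u') ∧
      IsSMulRegular (↑((pullback g G.t).presheaf.stalk p) ⧸ fibIdeal (pullback.snd g G.t ≫ G.s) p u hy)
        (Ideal.Quotient.mk (fibIdeal (pullback.snd g G.t ≫ G.s) p u hy)
          (FibFlat.sm (pullback.fst g G.t) p u' hp1 ((U'.presheaf.germ ⊤ u' trivial).hom f))) := by
  let h := pullback.snd g G.t ≫ G.s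
  let A := (pullback g G.t).presheaf.stalk p
  let I := fibIdeal h p u hy
  obtain ⟨n', W, hpW, hW⟩ := Ega43Prop.exists_nhd_fibreDimAt h p (moreMor_of_isCMAt h p hcm)
  obtain rfl : n' = n := by
    have := (hW p hpW).2
    rw [hn] at this
    exact_mod_cast this.symm
  obtain ⟨hflat, hBcm⟩ := (isCMAt_iff_sm h p u hy).1 hcm
  haveI := hBcm
  let γ : Γ(U', ⊤) →+* U'.presheaf.stalk u' := (U'.presheaf.germ ⊤ u' trivial).hom
  let ψ : U'.presheaf.stalk u' →+* A := FibFlat.sm (pullback.fst g G.t) p u' hp1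
  let φ : Γ(U', ⊤) →+* A ⧸ I := (Ideal.Quotient.mk I).comp (ψ.comp γ)
  haveI : IsNoetherianRing (A ⧸ I) := inferInstance
  obtain ⟨f, hf, hfP⟩ := exists_mem_forall_not_mem φ ((maximalIdeal _).comap γ) fun P hP hle => by
    haveI := hP.1.1
    let P' : PrimeSpectrum A := ⟨P.comap (Ideal.Quotient.mk I), inferInstance⟩
    have hP' : P'.asIdeal ∈ I.minimalPrimes := by
      rw [Ideal.minimalPrimes_eq_comap]
      exact ⟨P, hP, rfl⟩
    obtain ⟨hηp, hhη, hmax⟩ := fibMax_of_minimal h p u hy P' hP'
    set η := (pullback g G.t).fromSpecStalk p P'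
    have hrdη : FibDim.rd h η = n' := by
      have h1 := (hW η (hηp.mem_open W.2 hpW)).2
      rw [FibDim.fibreDimAt_eq_rd h hmax] at h1
      exact_mod_cast h1
    have hne : pullback.fst g G.t η ≠ u' := by
      intro hη
      let z := pullback.snd g G.t η
      have htz : G.t z = u := by
        rw [← Scheme.Hom.comp_apply, ← pullback.condition, Scheme.Hom.comp_apply, hη, hu']
      have hsz : G.s z = u := (Scheme.Hom.comp_apply _ _ η).symm.trans (hhη.trans hy)
      have := hbound z htz hsz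
      rw [← rd_preimmersion_comp (pullback.snd g G.t) G.s η] at this
      have h2 : FibDim.rd h η ≤ d := this
      omega
    subst hp1
    apply hne
    let Q : PrimeSpectrum (U'.presheaf.stalk (pullback.fst g G.t p)) :=
      PrimeSpectrum.comap ((pullback.fst g G.t).stalkMap p).hom P'
    have hnat : pullback.fst g G.t η = U'.fromSpecStalk (pullback.fst g G.t p) Q :=
      (congr($(Scheme.SpecMap_stalkMap_fromSpecStalk (pullback.fst g G.t) (x := p)) P')).symm
    letI := U'.presheaf.algebra_section_stalk (U := ⊤) ⟨pullback.fst g G.t p, trivial⟩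
    haveI := (isAffineOpen_top U').isLocalization_stalk ⟨pullback.fst g G.t p, trivial⟩
    have hQ : Q = closedPoint _ := by
      refine PrimeSpectrum.ext ((le_maximalIdeal Q.isPrime.ne_top).antisymm ?_)
      show maximalIdeal _ ≤ Q.asIdeal
      let M := ((isAffineOpen_top U').primeIdealOf ⟨pullback.fst g G.t p, trivial⟩).asIdeal.primeCompl
      rw [← IsLocalization.map_under M (U'.presheaf.stalk (pullback.fst g G.t p)) (maximalIdeal _),
        Ideal.map_le_iff_le_comap]
      intro r hr
      have := hle hr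
      simp only [φ, ψ, γ, FibFlat.sm_self, Ideal.mem_comap] at this
      exact this
    rw [hnat, hQ, Scheme.fromSpecStalk_closedPoint]
  exact ⟨f, hf, isSMulRegular_of_forall_not_mem hfP⟩

/-- Cutting down the fibre dimension by one. -/
theorem hasSlice_step (hbound : ∀ z : G.R, G.t z = u → G.s z = u → FibDim.rd G.s z ≤ d) {n : ℕ} (hd : d < n)
    (hsl : HasSlice G u n) : ∃ m, m + 1 = n ∧ HasSlice G u m := by
  obtain ⟨U', hU', g, u', p, hg, hglfp, hu', hp1, hp2, hcm, hn⟩ := hsl
  haveI : LocallyOfFinitePresentation (pullback.snd g G.t) := MorphismProperty.pullback_snd _ _ hglfp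
  let h := pullback.snd g G.t ≫ G.s
  have hy : h p = u := by rw [Scheme.Hom.comp_apply, hp2, e_apply_s]
  obtain ⟨f, hfm, hreg⟩ := exists_avoiding G hbound g u' hu' p hp1 hy hcm hn hd
  obtain ⟨hflat, hBcm⟩ := (isCMAt_iff_sm h p u hy).1 hcm
  haveI := hBcm
  let A := (pullback g G.t).presheaf.stalk p
  let I := fibIdeal h p u hy
  let a : A := FibFlat.sm (pullback.fst g G.t) p u' hp1 ((U'.presheaf.germ ⊤ u' trivial).hom f)
  have ha : a ∈ maximalIdeal A := map_nonunit _ _ hfm
  have ha' : Ideal.Quotient.mk I a ∈ maximalIdeal (A ⧸ I) := by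
    haveI : IsLocalHom (Ideal.Quotient.mk I) := IsLocalHom.of_surjective _ Ideal.Quotient.mk_surjective
    exact map_nonunit _ _ ha
  obtain ⟨hBcm', hdim⟩ := isCM_quot_span hreg ha'
  let q := CommRingCat.ofHom (Ideal.Quotient.mk (Ideal.span {f}))
  let i := Spec.map q ≫ U'.isoSpec.inv
  haveI : IsClosedImmersion (Spec.map q) := IsClosedImmersion.spec_of_surjective _ Ideal.Quotient.mk_surjective
  haveI : IsClosedImmersion i := inferInstanceAs (IsClosedImmersion (Spec.map q ≫ U'.isoSpec.inv))
  haveI : LocallyOfFinitePresentation (Spec.map q) :=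
    (HasRingHomProperty.Spec_iff (P := @LocallyOfFinitePresentation)).2
      (RingHom.FinitePresentation.of_surjective _ Ideal.Quotient.mk_surjective
        (by show (RingHom.ker (Ideal.Quotient.mk (Ideal.span {f}))).FG; rw [Ideal.mk_ker]; exact ⟨{f}, by simp⟩))
  haveI : LocallyOfFinitePresentation i :=
    inferInstanceAs (LocallyOfFinitePresentation (Spec.map q ≫ U'.isoSpec.inv))
  obtain ⟨w, hw⟩ : u' ∈ Set.range i := by
    have h1 : u' ∈ Set.range (Spec.map q ≫ (isAffineOpen_top U').fromSpec) := by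
      have := Triage.SliceFlat.mem_range_of_germ_mem (isAffineOpen_top U') u' trivial [f] (by simpa using hfm)
      rw [Ideal.ofList_singleton] at this
      exact this
    rwa [IsAffineOpen.fromSpec_top] at h1
  let g₂ := i ≫ g
  obtain ⟨p₂, hq1, hq2⟩ := Scheme.Pullback.exists_preimage_pullback (f := g₂) (g := G.t) w (G.e u) (by
    rw [Scheme.Hom.comp_apply, hw, hu', e_apply_t])
  let π : pullback g₂ G.t ⟶ pullback g G.t :=
    pullback.lift (pullback.fst g₂ G.t ≫ i) (pullback.snd g₂ G.t) (by rw [Category.assoc]; exact pullback.condition)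
  have sq : IsPullback π (pullback.fst g₂ G.t) (pullback.fst g G.t) i := by
    refine IsPullback.of_right ?_ (pullback.lift_fst _ _ _) (IsPullback.of_hasPullback g G.t).flip
    rw [pullback.lift_snd]
    exact (IsPullback.of_hasPullback g₂ G.t).flip
  haveI : IsClosedImmersion π := MorphismProperty.of_isPullback (P := @IsClosedImmersion) sq.flip inferInstance
  have hπsnd : π ≫ pullback.snd g G.t = pullback.snd g₂ G.t := pullback.lift_snd _ _ _
  have hπp : π p₂ = p := by
    apply (pullback.snd g G.t).isEmbedding.injective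
    rw [← Scheme.Hom.comp_apply, hπsnd, hq2, hp2]
  have hker : RingHom.ker (FibFlat.sm π p₂ p hπp) = Ideal.span {a} := by
    rw [ker_sm_of_isPullback sq p₂ p hπp u' hp1 w hq1 hw, ker_sm_zeroLocus f w u' hw, Ideal.map_span,
      Set.image_singleton]
  haveI : LocallyOfFiniteType (π ≫ h) := inferInstance
  have hsup : ∀ {B : Type u} [CommRing B], ((↑A ⧸ (I ⊔ Ideal.span {a})) ≃+* B) →
      ((↑A ⧸ I) ⧸ Ideal.span {Ideal.Quotient.mk I a}) ≃+* B := fun {B} _ e =>
    ((Ideal.quotEquivOfEq (by rw [Ideal.map_span, Set.image_singleton])).trans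
      (DoubleQuot.quotQuotEquivQuotSup I (Ideal.span {a}))).trans e
  have hcm₂ : Grpd.IsCMAt (π ≫ h) p₂ :=
    cm_of_surjective π h p₂ p hπp u hy _ hker (flat_quot_span h p u hy hflat a ha hreg)
      (Triage.CMMor.isCM_of_equiv (hsup (RingEquiv.refl _)) hBcm')
  have hdim₂ := dim_of_surjective π h p₂ p hπp u hy _ hker
  rw [← ringKrullDim_eq_of_ringEquiv (hsup (RingEquiv.refl _))] at hdim₂
  rw [hdim₂, ringKrullDim_fibre h p u hy] at hdim
  have hdim' : DimFormula.fb (π ≫ h) p₂ + 1 = DimFormula.fb h p := by exact_mod_cast hdim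
  rw [DimFormula.fibreDimAt_eq_add] at hn
  have hn' : FibDim.rd h p + DimFormula.fb h p = n := by exact_mod_cast hn
  refine ⟨FibDim.rd (π ≫ h) p₂ + DimFormula.fb (π ≫ h) p₂, ?_, _, inferInstance, g₂, w, p₂, inferInstance,
    inferInstance, by rw [Scheme.Hom.comp_apply, hw, hu'], hq1, hq2, ?_, ?_⟩
  · rw [rd_preimmersion_comp π h p₂, hπp]
    omega
  · rw [← hπsnd, Category.assoc]
    exact hcm₂
  · rw [← hπsnd, Category.assoc]
    exact DimFormula.fibreDimAt_eq_add (π ≫ h) p₂

/-- A slice of minimal fibre dimension. -/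
theorem hasSlice_min (hbound : ∀ z : G.R, G.t z = u → G.s z = u → FibDim.rd G.s z ≤ d) :
    ∀ {n : ℕ}, d ≤ n → HasSlice G u n → HasSlice G u d := by
  intro n hdn
  induction n, hdn using Nat.le_induction with
  | base => exact id
  | succ k hk ih =>
    intro h
    obtain ⟨m, hm, h'⟩ := hasSlice_step G hbound (Nat.lt_succ_of_le hk) h
    obtain rfl : m = k := by omega
    exact ih h'

end Groth.Agent.GrpdSlice29
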